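import Groth.Agent.Sga7.H732.Local
import Mathlib.RingTheory.DedekindDomain.IntegralClosure
import Mathlib.RingTheory.DedekindDomain.Dvr
import Mathlib.RingTheory.DedekindDomain.Ideal.Lemmas
import Mathlib.RingTheory.DedekindDomain.Factorization

/-!
# S4051 from S4048, S4050, spreading out and gluing over a Dedekind domain
-/

set_option autoImplicit false

universe u

open CategoryTheory CategoryTheory.Limits AlgebraicGeometry MonObj
open SGA7

namespace Groth.Agent.Sga7.H732.Assembly

open Groth.Agent.Sga7.H736.BasePts Groth.Agent.Sga7.H274.ValConj S3210 Local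

/-- S4050. -/
def OpenLevelTwo : Prop :=
  ∀ (R K Ω : Type u) [CommRing R] [IsDomain R] [IsDiscreteValuationRing R] [Field K]
    [Algebra R K] [IsFractionRing R K] [Field Ω] [Algebra K Ω] [IsSepClosure K Ω]
    (W : ValuationSubring Ω) (_ : SGA7.LiesOver K R W)
    (ℓ : ℕ) (_ : ℓ.Prime) (_ : (ℓ : IsLocalRing.ResidueField R) ≠ 0)
    (A : Over (Spec (CommRingCat.of K))) [GrpObj A] [IsProper A.hom] [GeometricallyIntegral A.hom],
    ∃ π' : OpenSubgroup (Ω ≃ₐ[K] Ω), ∀ (ν : ℕ) (σ τ : Ω ≃ₐ[K] Ω), σ ∈ π' → τ ∈ π' →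
      SGA7.IsInertia W σ → SGA7.IsInertia W τ →
        ∀ x : SGA7.Pts Ω A, x ^ (ℓ ^ ν) = 1 → SGA7.dev σ (SGA7.dev τ x) = 1

/-- Semistable reduction over a Dedekind domain is semistable reduction over all localizations at maximal ideals. -/
def GlueSS : Prop :=
  ∀ (R K : Type u) [CommRing R] [IsDedekindDomain R] [Field K] [Algebra R K] [IsFractionRing R K]
    (A : Over (Spec (CommRingCat.of K))) [GrpObj A] [IsProper A.hom] [GeometricallyIntegral A.hom]
    (_ : ∀ (q : Ideal R) [q.IsMaximal] (_ : q ≠ ⊥) (S : Type u) [CommRing S] [Algebra R S]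
      [IsLocalization.AtPrime S q] [Algebra S K] [IsScalarTower R S K], SGA7.HasSemistableReduction S K A),
    SGA7.HasSemistableReduction R K A

/-- An abelian variety over the fraction field of a Dedekind domain has good reduction at almost all primes. -/
def Spread : Prop :=
  ∀ (R K : Type u) [CommRing R] [IsDedekindDomain R] [Field K] [Algebra R K] [IsFractionRing R K]
    (A : Over (Spec (CommRingCat.of K))) [GrpObj A] [IsProper A.hom] [GeometricallyIntegral A.hom],
    ∃ f : R, f ≠ 0 ∧ ∀ (q : Ideal R) [q.IsMaximal] (_ : f ∉ q) (S : Type u) [CommRing S] [Algebra R S]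
      [IsLocalization.AtPrime S q] [Algebra S K] [IsScalarTower R S K], SGA7.HasGoodReduction S K A

/-- There is a prime number different from the residue characteristic. -/
theorem exists_prime (k : Type u) [Field k] : ∃ ℓ : ℕ, ℓ.Prime ∧ (ℓ : k) ≠ 0 := by
  by_cases h2 : ((2 : ℕ) : k) = 0
  · refine ⟨3, Nat.prime_three, ?_⟩
    intro h3
    have h4 : ((3 : ℕ) : k) = ((2 : ℕ) : k) + 1 := by push_cast; norm_num
    rw [h2, h3, zero_add] at h4
    exact zero_ne_one h4
  · exact ⟨2, Nat.prime_two, h2⟩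

/-- Good reduction gives trivial action of inertia. -/
theorem galAct_of_good {R K Ω : Type u} [CommRing R] [IsDomain R] [IsDiscreteValuationRing R] [Field K]
    [Algebra R K] [IsFractionRing R K] [Field Ω] [Algebra K Ω] [IsSepClosure K Ω]
    (W : ValuationSubring Ω) (hW : SGA7.LiesOver K R W) (ℓ : ℕ) (hℓ : ℓ.Prime)
    (hℓp : (ℓ : IsLocalRing.ResidueField R) ≠ 0)
    (A : Over (Spec (CommRingCat.of K))) [GrpObj A] [IsProper A.hom] [GeometricallyIntegral A.hom]
    (h : HasGoodReduction R K A) (ν : ℕ) (σ : Ω ≃ₐ[K] Ω) (hσ : SGA7.IsInertia W σ) (x : SGA7.Pts Ω A)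
    (hx : x ^ (ℓ ^ ν) = 1) : SGA7.galAct σ x = x := by
  obtain ⟨B, _, e, -, h1, h2, h3⟩ := h
  exact Groth.Agent.S3210.result R K Ω W hW ℓ hℓ hℓp A ⟨B, inferInstance, h1, h2, h3, ⟨e⟩⟩ ν σ hσ x hx

/-- The finite set of maximal ideals containing a nonzero element of a Dedekind domain. -/
theorem finite_maximal {R : Type u} [CommRing R] [IsDedekindDomain R] (f : R) (hf : f ≠ 0) :
    {p : Ideal R | p.IsMaximal ∧ p ≠ ⊥ ∧ f ∈ p}.Finite := by
  have h1 := Ideal.finite_factors (R := R) (I := Ideal.span {f}) (by simpa using hf)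
  refine (h1.image (fun v => v.asIdeal)).subset ?_
  rintro p ⟨hp1, hp2, hp3⟩
  refine ⟨⟨p, hp1.isPrime, hp2⟩, ?_, rfl⟩
  exact (Ideal.dvd_span_singleton).2 hp3

section LocalData

variable (R K Ω : Type u) [CommRing R] [IsDedekindDomain R] [Field K]
    [Algebra R K] [IsFractionRing R K] [Field Ω] [Algebra K Ω] [IsSepClosure K Ω]
    (A : Over (Spec (CommRingCat.of K))) [GrpObj A] [IsProper A.hom] [GeometricallyIntegral A.hom]

/-- The local conclusion at the maximal ideal `p` for the finite Galois extensions contained in the fixed field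
of `U`. -/
def LocalSS (p : Ideal R) (U : Subgroup (Ω ≃ₐ[K] Ω)) : Prop :=
  ∀ (E : IntermediateField K Ω) [FiniteDimensional K E] [IsGalois K E] (_ : E.fixingSubgroup ≤ U)
    [Algebra R E] [IsScalarTower R K E]
    (q : Ideal (integralClosure R E)) [q.IsMaximal] (_ : q.under R = p)
    (S : Type u) [CommRing S] [Algebra (integralClosure R E) S] [IsLocalization.AtPrime S q]
    [Algebra S E] [IsScalarTower (integralClosure R E) S E],
    HasSemistableReduction S E (Red.bc (fRK K E) A)

theorem localSS_of (h48 : SSOfLevelTwo.{u}) (p : Ideal R) [p.IsMaximal] (hp : p ≠ ⊥)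
    (U : Subgroup (Ω ≃ₐ[K] Ω)) {S₀ : Type u} [CommRing S₀] [IsDomain S₀]
    [IsDiscreteValuationRing S₀] [Algebra R S₀] [IsLocalization.AtPrime S₀ p] [Algebra S₀ K]
    [IsScalarTower R S₀ K] [IsFractionRing S₀ K]
    (W : ValuationSubring Ω) (hW : LiesOver K S₀ W)
    (ℓ : ℕ) (hℓ : ℓ.Prime) (hℓp : (ℓ : IsLocalRing.ResidueField S₀) ≠ 0)
    (h : ∀ (ν : ℕ) (σ τ : Ω ≃ₐ[K] Ω), σ ∈ U → τ ∈ U → SGA7.IsInertia W σ → SGA7.IsInertia W τ →
        ∀ x : SGA7.Pts Ω A, x ^ (ℓ ^ ν) = 1 → SGA7.dev σ (SGA7.dev τ x) = 1) :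
    LocalSS R K Ω A p U := by
  intro E _ _ hE _ _ q _ hq S _ _ _ _ _
  have hfr : IsFractionRing (integralClosure R E) E :=
    integralClosure.isFractionRing_of_finite_extension K E
  have hded : IsDedekindDomain (integralClosure R E) := integralClosure.isDedekindDomain R K E
  have hle : q.primeCompl ≤ nonZeroDivisors (integralClosure R E) := q.primeCompl_le_nonZeroDivisors
  have : IsFractionRing S E :=
    IsFractionRing.isFractionRing_of_isDomain_of_isLocalization q.primeCompl S E
  have hq0 : q ≠ ⊥ := by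
    rintro rfl
    apply hp
    rw [← hq]
    rw [Ideal.under_def, Ideal.comap_bot_of_injective]
    have hinj : Function.Injective (algebraMap R E) := by
      rw [IsScalarTower.algebraMap_eq R K E]
      exact (algebraMap K E).injective.comp (IsFractionRing.injective R K)
    intro x y hxy
    apply hinj
    have h3 := congrArg (algebraMap (integralClosure R E) E) hxy
    rwa [← IsScalarTower.algebraMap_apply, ← IsScalarTower.algebraMap_apply] at h3
  have : IsDomain S := IsLocalization.isDomain_of_le_nonZeroDivisors S hle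
  have : IsDiscreteValuationRing S :=
    IsLocalization.AtPrime.isDiscreteValuationRing_of_dedekind_domain _ hq0 S
  have hmem : ∀ r : R, r ∈ p ↔ algebraMap R (integralClosure R E) r ∈ q := by
    intro r
    rw [← hq]
    rfl
  -- the map `S₀ → S`
  have hunit : ∀ y : p.primeCompl,
      IsUnit (((algebraMap (integralClosure R E) S).comp (algebraMap R (integralClosure R E))) y) := by
    intro y
    refine IsLocalization.map_units S (⟨algebraMap R (integralClosure R E) y, ?_⟩ : q.primeCompl)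
    intro hy
    exact y.2 ((hmem _).2 hy)
  let g : S₀ →+* S := IsLocalization.lift (M := p.primeCompl) hunit
  have hg : ∀ r : R, g (algebraMap R S₀ r) = algebraMap (integralClosure R E) S (algebraMap R _ r) :=
    fun r => IsLocalization.lift_eq (M := p.primeCompl) hunit r
  have hcomp : ∀ r : S₀, algebraMap S E (g r) = algebraMap K E (algebraMap S₀ K r) := by
    intro r
    have h1 : (algebraMap S E).comp g = (algebraMap K E).comp (algebraMap S₀ K) := by
      apply IsLocalization.ringHom_ext p.primeCompl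
      refine RingHom.ext fun x => ?_
      change algebraMap S E (g (algebraMap R S₀ x)) = algebraMap K E (algebraMap S₀ K (algebraMap R S₀ x))
      rw [hg, ← IsScalarTower.algebraMap_apply (integralClosure R E) S E,
        ← IsScalarTower.algebraMap_apply R (integralClosure R E) E,
        ← IsScalarTower.algebraMap_apply R S₀ K, ← IsScalarTower.algebraMap_apply R K E]
    exact RingHom.congr_fun h1 r
  let _ : Algebra S₀ S := g.toAlgebra
  have hloc : IsLocalHom (algebraMap S₀ S) := by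
    refine ⟨fun a ha => ?_⟩
    by_contra hna
    obtain ⟨r, s, rfl⟩ := IsLocalization.exists_mk'_eq p.primeCompl a
    have hr : r ∈ p := by
      rw [← IsLocalization.AtPrime.to_map_mem_maximal_iff S₀ p, ← IsLocalization.mk'_spec S₀ r s]
      exact Ideal.mul_mem_right _ _ ((IsLocalRing.mem_maximalIdeal _).2 hna)
    have h1 : g (algebraMap R S₀ r) ∈ IsLocalRing.maximalIdeal S := by
      rw [hg, IsLocalization.AtPrime.to_map_mem_maximal_iff S q]
      exact (hmem r).1 hr
    rw [← IsLocalization.mk'_spec S₀ r s, map_mul] at h1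
    have h2 : IsUnit (g (algebraMap R S₀ s)) := (IsLocalization.map_units S₀ s).map g
    exact (IsLocalRing.mem_maximalIdeal _).1 h1 (IsUnit.mul ha h2)
  refine semistable_local h48 W hW ℓ hℓ hℓp A ?_ S hcomp
  intro σ τ hσ hτ ν x hx
  refine h ν _ _ (hE ?_) (hE ?_) hσ hτ x hx
  · rw [IntermediateField.mem_fixingSubgroup_iff]
    intro z hz
    exact σ.commutes (⟨z, hz⟩ : E)
  · rw [IntermediateField.mem_fixingSubgroup_iff]
    intro z hz
    exact τ.commutes (⟨z, hz⟩ : E)

/-- Existence of the open subgroup at a maximal ideal. -/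
theorem exists_localSS (h48 : SSOfLevelTwo.{u}) (h50 : OpenLevelTwo.{u}) (p : Ideal R) [p.IsMaximal]
    (hp : p ≠ ⊥) : ∃ U : OpenSubgroup (Ω ≃ₐ[K] Ω), LocalSS R K Ω A p U.toSubgroup ∧
      ((∀ (S : Type u) [CommRing S] [Algebra R S]
      [IsLocalization.AtPrime S p] [Algebra S K] [IsScalarTower R S K], SGA7.HasGoodReduction S K A) →
        U = ⊤) := by
  classical
  let S₀ := Localization.AtPrime p
  have hle : p.primeCompl ≤ nonZeroDivisors R := p.primeCompl_le_nonZeroDivisors
  let _ : Algebra S₀ K := (IsLocalization.lift (M := p.primeCompl) (S := S₀)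
    (g := algebraMap R K)
    (fun y => IsLocalization.map_units K (⟨y.1, hle y.2⟩ : nonZeroDivisors R))).toAlgebra
  have : IsScalarTower R S₀ K := IsScalarTower.of_algebraMap_eq (fun r =>
    (IsLocalization.lift_eq (M := p.primeCompl) (S := S₀) _ r).symm)
  have : IsFractionRing S₀ K :=
    IsFractionRing.isFractionRing_of_isDomain_of_isLocalization p.primeCompl S₀ K
  have : IsDomain S₀ := IsLocalization.isDomain_localization hle
  have : IsDiscreteValuationRing S₀ :=
    IsLocalization.AtPrime.isDiscreteValuationRing_of_dedekind_domain _ hp S₀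
  obtain ⟨ℓ, hℓ, hℓp⟩ := exists_prime (IsLocalRing.ResidueField S₀)
  obtain ⟨W, hW⟩ := exists_liesOver S₀ K Ω
  by_cases hgood : ∀ (S : Type u) [CommRing S] [Algebra R S]
      [IsLocalization.AtPrime S p] [Algebra S K] [IsScalarTower R S K], SGA7.HasGoodReduction S K A
  · refine ⟨⊤, ?_, fun _ => rfl⟩
    refine localSS_of R K Ω A h48 p hp _ W hW ℓ hℓ hℓp ?_
    intro ν σ τ _ _ hσ hτ x hx
    have h1 := galAct_of_good W hW ℓ hℓ hℓp A (hgood S₀) ν τ hτ x hx
    have h2 : dev τ x = 1 := by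
      rw [dev, h1, mul_inv_cancel]
    rw [h2, dev, galAct_map_one, inv_one, _root_.mul_one]
  · obtain ⟨U, hU⟩ := h50 S₀ K Ω W hW ℓ hℓ hℓp A
    refine ⟨U, ?_, fun h => absurd h hgood⟩
    exact localSS_of R K Ω A h48 p hp _ W hW ℓ hℓ hℓp hU

end LocalData

open Classical in
/-- S4051 from S4048 and S4050. -/
theorem main (h48 : SSOfLevelTwo.{u}) (h50 : OpenLevelTwo.{u}) (hG : GlueSS.{u}) (hS : Spread.{u})
    (R K : Type u) [CommRing R] [IsDedekindDomain R] [Field K]
    [Algebra R K] [IsFractionRing R K]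
    (A : Over (Spec (CommRingCat.of K))) [GrpObj A] [IsProper A.hom] [GeometricallyIntegral A.hom] :
    ∃ (K' : Type u) (_ : Field K') (_ : Algebra K K') (_ : Algebra R K')
      (_ : IsScalarTower R K K') (_ : FiniteDimensional K K') (_ : IsGalois K K'),
      SGA7.HasSemistableReduction (integralClosure R K') K'
        (Red.bc (Spec.map (CommRingCat.ofHom (algebraMap K K'))) A) := by
  let Ω := SeparableClosure K
  have hgal : IsGalois K Ω := inferInstance
  obtain ⟨f, hf, hgood⟩ := hS R K A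
  have hBad := finite_maximal f hf
  have hex : ∀ p : Ideal R, ∃ U : OpenSubgroup (Ω ≃ₐ[K] Ω), p.IsMaximal → p ≠ ⊥ →
      LocalSS R K Ω A p U.toSubgroup ∧ (f ∉ p → U = ⊤) := by
    intro p
    by_cases hp : p.IsMaximal ∧ p ≠ ⊥
    · obtain ⟨h1, h2⟩ := hp
      obtain ⟨U, hU1, hU2⟩ := exists_localSS R K Ω A h48 h50 p h2
      exact ⟨U, fun _ _ => ⟨hU1, fun h3 => hU2 (hgood p h3)⟩⟩
    · exact ⟨⊤, fun h1 h2 => absurd ⟨h1, h2⟩ hp⟩
  choose U hU using hex
  let V : OpenSubgroup (Ω ≃ₐ[K] Ω) := ⟨⨅ p ∈ {p : Ideal R | p.IsMaximal ∧ p ≠ ⊥ ∧ f ∈ p}, (U p).toSubgroup, by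
    have h1 : ((⨅ p ∈ {p : Ideal R | p.IsMaximal ∧ p ≠ ⊥ ∧ f ∈ p}, (U p).toSubgroup : Subgroup (Ω ≃ₐ[K] Ω)) :
        Set (Ω ≃ₐ[K] Ω)) = ⋂ p ∈ {p : Ideal R | p.IsMaximal ∧ p ≠ ⊥ ∧ f ∈ p}, (U p : Set (Ω ≃ₐ[K] Ω)) := by
      ext x
      simp
    change IsOpen ((⨅ p ∈ {p : Ideal R | p.IsMaximal ∧ p ≠ ⊥ ∧ f ∈ p}, (U p).toSubgroup : Subgroup (Ω ≃ₐ[K] Ω)) :
        Set (Ω ≃ₐ[K] Ω))
    rw [h1]
    exact hBad.isOpen_biInter (fun p _ => (U p).isOpen)⟩
  obtain ⟨E, hE1, hE2, hE3⟩ := (krullTopology_mem_nhds_one_iff_of_normal K Ω (V : Set (Ω ≃ₐ[K] Ω))).1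
    (V.isOpen.mem_nhds V.one_mem)
  let _ : Algebra R E := ((algebraMap K E).comp (algebraMap R K)).toAlgebra
  have : IsScalarTower R K E := IsScalarTower.of_algebraMap_eq (fun _ => rfl)
  have : Algebra.IsSeparable K E := inferInstance
  have : IsGalois K E := ⟨⟩
  have hfr : IsFractionRing (integralClosure R E) E :=
    integralClosure.isFractionRing_of_finite_extension K E
  have hded : IsDedekindDomain (integralClosure R E) := integralClosure.isDedekindDomain R K E
  have hpr : IsProper (Red.bc (fRK K E) A).hom := by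
    change IsProper (pullback.snd A.hom _)
    infer_instance
  have hgi : GeometricallyIntegral (Red.bc (fRK K E) A).hom := by
    change GeometricallyIntegral (pullback.snd A.hom _)
    infer_instance
  refine ⟨E, inferInstance, inferInstance, inferInstance, inferInstance, inferInstance, inferInstance, ?_⟩
  refine hG (integralClosure R E) E (Red.bc (fRK K E) A) ?_
  intro q _ hq0 S _ _ _ _ _
  have hpm : (q.under R).IsMaximal := Ideal.isMaximal_comap_of_isIntegral_of_isMaximal q
  have hp0 : q.under R ≠ ⊥ := by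
    intro h
    exact hq0 (Ideal.eq_bot_of_comap_eq_bot h)
  obtain ⟨hl1, hl2⟩ := hU (q.under R) hpm hp0
  refine hl1 E ?_ q rfl S
  by_cases hfp : f ∈ q.under R
  · intro σ hσ
    have h1 : σ ∈ V := hE3 hσ
    have h2 : σ ∈ (⨅ p ∈ {p : Ideal R | p.IsMaximal ∧ p ≠ ⊥ ∧ f ∈ p}, (U p).toSubgroup : Subgroup (Ω ≃ₐ[K] Ω)) := h1
    simp only [Subgroup.mem_iInf] at h2
    exact h2 _ ⟨hpm, hp0, hfp⟩
  · rw [hl2 hfp]
    exact fun σ _ => trivial

end Groth.Agent.Sga7.H732.Assembly
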