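import Groth.Agent.Fga.JacSum
import Groth.Prelude.Def_FGA
import Groth.Prelude.Def_Curve
import Groth.Prelude.Def_ModelsSS
import Groth.Prelude.Def_SGA7IX
import Mathlib.RingTheory.Henselian
import Mathlib.FieldTheory.IsSepClosed
import Mathlib.RingTheory.DiscreteValuationRing.Basic
import Mathlib.AlgebraicGeometry.Geometrically.Integral

/-!
# The classical route to potential semistable reduction: target statements of its pieces

Prop-valued statements, to be used as hypotheses by the glue.
-/

set_option autoImplicit false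

universe u

open CategoryTheory CategoryTheory.Limits AlgebraicGeometry MonObj MonoidalCategory
  CartesianMonoidalCategory

namespace Groth.Agent.Sga7.H732.Hedge

open Groth.Agent.Grpsch.PicGrp Groth.Agent.Fga.RigGrp Groth.Agent.Fga.JacSum
open IsLocalRing

/-- `Spec` of a field or ring over `Spec S`. -/
noncomputable abbrev pt (S T : Type u) [CommRing S] [CommRing T] [Algebra S T] : Over (Spec (CommRingCat.of S)) :=
  Over.mk (Spec.map (CommRingCat.ofHom (algebraMap S T)))

/-- `(J, ξ)` is the Jacobian of the curve `f : C → S` with base point `σ`: it represents the classes rigidified along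
`σ` and of degree zero on the fibres, and the group law of `J` corresponds to the product of classes. -/
structure IsJac {S C : Scheme.{u}} (f : C ⟶ S) (σ : S ⟶ C) (hσ : σ ≫ f = 𝟙 S) (J : Over S) [GrpObj J]
    (ξ : Pic (PicF.XT f J)) : Prop where
  mem : ξ ∈ Rg f σ hσ J
  deg : FGA.HasFibreDegreeZeroCl f J (toCl ξ)
  mul : ∀ {T : Over S} (g h : T ⟶ J),
    pull (PicF.XTmap f (g * h)) ξ = pull (PicF.XTmap f g) ξ * pull (PicF.XTmap f h) ξ
  univ : ∀ (T : Over S) (c : Pic (PicF.XT f T)), c ∈ Rg f σ hσ T → FGA.HasFibreDegreeZeroCl f T (toCl c) →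
    ∃! g : T ⟶ J, pull (PicF.XTmap f g) ξ = c

/-- (JK) Existence of the Jacobian over an arbitrary field, as an abelian variety. -/
def JK : Prop :=
  ∀ (K : Type u) [Field K] (C : Scheme.{u}) (f : C ⟶ Spec (CommRingCat.of K))
    (_ : Curve.IsSmoothProperCurve K C f) (_ : GeometricallyIntegral f)
    (σ : Spec (CommRingCat.of K) ⟶ C) (hσ : σ ≫ f = 𝟙 _),
    ∃ (J : Over (Spec (CommRingCat.of K))) (_ : GrpObj J) (ξ : Pic (PicF.XT f J)),
      IsProper J.hom ∧ GeometricallyIntegral J.hom ∧ IsJac f σ hσ J ξ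

/-- (C1) Invertible modules extend from an open subscheme of a regular scheme. -/
def C1 : Prop :=
  ∀ (Y U : Scheme.{u}) (j : U ⟶ Y) [IsOpenImmersion j] [IsLocallyNoetherian Y] [CompactSpace Y]
    (_ : Models.IsRegularScheme Y), Function.Surjective (pull j : Pic Y → Pic U)

/-- (C2) Homotopy invariance of the Picard group of a proper nodal curve over an algebraically closed field. -/
def C2 : Prop :=
  ∀ (k : Type u) [Field k] [IsAlgClosed k] (Y : Scheme.{u}) (g : Y ⟶ Spec (CommRingCat.of k)) [IsProper g]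
    (_ : Curv2.IsNodalFamily g) (c : Pic (PicF.XT g (Red.Ga (Spec (CommRingCat.of k)))))
    (t t' : 𝟙_ (Over (Spec (CommRingCat.of k))) ⟶ Red.Ga (Spec (CommRingCat.of k))),
    pull (PicF.XTmap g t) c = pull (PicF.XTmap g t') c

/-- (LIFT) `X/R` proper nodal with smooth generic fibre `C`, `R''` a henselian discrete valuation ring over `R` with
algebraically closed residue field, `L` an invertible class on `X_{R''}` trivial on the special fibre: the class
on the generic fibre `C_{K''}` is that of `Σ y'_i - Σ y_i` with `y_i, y'_i` sections in the smooth locus with the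
same reduction. -/
def LIFT : Prop :=
  ∀ (R K R'' K'' : Type u) [CommRing R] [IsDomain R] [IsDiscreteValuationRing R] [Field K] [Algebra R K]
    [IsFractionRing R K] [CommRing R''] [IsDomain R''] [IsDiscreteValuationRing R''] [HenselianLocalRing R'']
    [IsAlgClosed (ResidueField R'')] [Field K''] [Algebra R'' K''] [IsFractionRing R'' K'']
    [Algebra R R''] [IsLocalHom (algebraMap R R'')] [Algebra K K''] [Algebra R K''] [IsScalarTower R K K'']
    [IsScalarTower R R'' K'']
    (X : Scheme.{u}) (p : X ⟶ Spec (CommRingCat.of R)) [IsProper p] (_ : Curv2.IsNodalFamily p)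
    (C : Scheme.{u}) (f : C ⟶ Spec (CommRingCat.of K)) (c : C ⟶ X)
    (_ : IsPullback c f p (Spec.map (CommRingCat.ofHom (algebraMap R K))))
    [SmoothOfRelativeDimension 1 f] [IsSeparated f] (_ : GeometricallyIntegral f)
    (cm : PicF.XT f (pt K K'') ⟶ PicF.XT p (pt R R''))
    (_ : cm ≫ pullback.fst _ _ = pullback.fst _ _ ≫ c)
    (_ : cm ≫ pullback.snd _ _ = pullback.snd _ _ ≫ Spec.map (CommRingCat.ofHom (algebraMap R'' K'')))
    (r : pt R (ResidueField R'') ⟶ pt R R'')
    (_ : r.left = Spec.map (CommRingCat.ofHom (residue R'')))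
    (L : Pic (PicF.XT p (pt R R''))) (_ : pull (PicF.XTmap p r) L = 1),
    ∃ (n : ℕ) (y y' : Fin n → Pt p (pt R R'')) (z z' : Fin n → Pt f (pt K K'')),
      (∀ i, ∃ U : X.Opens, Smooth (U.ι ≫ p) ∧ Set.range (y i).1 ⊆ U ∧ Set.range (y' i).1 ⊆ U) ∧
      (∀ i, (y i).comp r = (y' i).comp r) ∧
      (∀ i, (z i).1 ≫ c = Spec.map (CommRingCat.ofHom (algebraMap R'' K'')) ≫ (y i).1) ∧
      (∀ i, (z' i).1 ≫ c = Spec.map (CommRingCat.ofHom (algebraMap R'' K'')) ≫ (y' i).1) ∧
      pull cm L = ∏ i, ((gcl f (z' i))⁻¹ * gcl f (z i))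

/-- (CLAIM) The special fibre of the Neron model of the Jacobian of a curve with semistable reduction contains
no copy of the additive group. -/
def CLAIM : Prop :=
  ∀ (R : Type u) [CommRing R] [IsDomain R] [IsDiscreteValuationRing R] [HenselianLocalRing R]
    [IsSepClosed (ResidueField R)]
    (C : Scheme.{u}) (f : C ⟶ Spec (CommRingCat.of (FractionRing R)))
    (_ : Curve.IsSmoothProperCurve (FractionRing R) C f) (_ : GeometricallyIntegral f)
    (σ : Spec (CommRingCat.of (FractionRing R)) ⟶ C) (hσ : σ ≫ f = 𝟙 _)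
    (X : Scheme.{u}) (p : X ⟶ Spec (CommRingCat.of R)) (_ : Models.IsRegularProperModel R X p C f)
    (_ : Curv2.IsNodalFamily p)
    (J : Over (Spec (CommRingCat.of (FractionRing R)))) [GrpObj J] (ξ : Pic (PicF.XT f J))
    (_ : IsProper J.hom) (_ : GeometricallyIntegral J.hom) (_ : IsJac f σ hσ J ξ)
    (N : Over (Spec (CommRingCat.of R))) [GrpObj N] (_ : SGA7.IsNeron R (FractionRing R) N)
    (e : (SGA7.genFib R (FractionRing R)).obj N ≅ J) (_ : IsMonHom e.hom),
    SGA7.FibreUnipotentRankZero (closedPoint R) N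

/-- A family of additive classes on `A × C_i` (i.e. homomorphisms `A → Pic⁰(C_i)`) with finite common kernel. -/
structure FKData (K : Type u) [Field K] (A : Over (Spec (CommRingCat.of K))) [GrpObj A] (n : ℕ)
    (C : Fin n → Scheme.{u}) (f : ∀ i, C i ⟶ Spec (CommRingCat.of K))
    (σ : ∀ i, Spec (CommRingCat.of K) ⟶ C i) (hσ : ∀ i, σ i ≫ f i = 𝟙 _)
    (c : ∀ i, Pic (PicF.XT (f i) A)) : Prop where
  curve : ∀ i, Curve.IsSmoothProperCurve K (C i) (f i)
  geomInt : ∀ i, GeometricallyIntegral (f i)
  mem : ∀ i, c i ∈ Rg (f i) (σ i) (hσ i) A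
  deg : ∀ i, FGA.HasFibreDegreeZeroCl (f i) A (toCl (c i))
  mul : ∀ i {T : Over (Spec (CommRingCat.of K))} (g h : T ⟶ A),
    pull (PicF.XTmap (f i) (g * h)) (c i) = pull (PicF.XTmap (f i) g) (c i) * pull (PicF.XTmap (f i) h) (c i)
  finite : ∀ (Ω : Type u) [Field Ω] [IsAlgClosed Ω] (t : Spec (CommRingCat.of Ω) ⟶ Spec (CommRingCat.of K)),
    {x : Over.mk t ⟶ A | ∀ i, pull (PicF.XTmap (f i) x) (c i) = 1}.Finite

/-- (FK) After a finite separable extension there are curves `C_i` and homomorphisms `A → Pic⁰(C_i)` with finite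
common kernel. -/
def FK : Prop :=
  ∀ (K : Type u) [Field K] (A : Over (Spec (CommRingCat.of K))) [GrpObj A] [IsProper A.hom]
    [GeometricallyIntegral A.hom],
    ∃ (K₁ : Type u) (_ : Field K₁) (_ : Algebra K K₁) (_ : FiniteDimensional K K₁)
      (_ : Algebra.IsSeparable K K₁) (n : ℕ) (C : Fin n → Scheme.{u})
      (f : ∀ i, C i ⟶ Spec (CommRingCat.of K₁))
      (σ : ∀ i, Spec (CommRingCat.of K₁) ⟶ C i) (hσ : ∀ i, σ i ≫ f i = 𝟙 _)
      (c : ∀ i, Pic (PicF.XT (f i) (Red.bc (Spec.map (CommRingCat.ofHom (algebraMap K K₁))) A))),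
      FKData K₁ (Red.bc (Spec.map (CommRingCat.ofHom (algebraMap K K₁))) A) n C f σ hσ c

/-- (SUB) `N` the Neron model of an abelian variety over a strictly henselian discrete valuation ring, `u : N → P` a
homomorphism with finite kernel on the generic fibre, `P` commutative separated of finite type without `G_a` in the
special fibre: then there is no `G_a` in the special fibre of `N`. -/
def SUB : Prop :=
  ∀ (R K : Type u) [CommRing R] [IsDomain R] [IsDiscreteValuationRing R] [HenselianLocalRing R]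
    [IsSepClosed (ResidueField R)] [Field K] [Algebra R K] [IsFractionRing R K]
    (N P : Over (Spec (CommRingCat.of R))) [GrpObj N] [GrpObj P] [IsCommMonObj P]
    (_ : SGA7.IsNeron R K N) (_ : IsProper ((SGA7.genFib R K).obj N).hom)
    (_ : GeometricallyIntegral ((SGA7.genFib R K).obj N).hom)
    [IsSeparated P.hom] [LocallyOfFiniteType P.hom] [QuasiCompact P.hom] (u : N ⟶ P) [IsMonHom u]
    (_ : ∀ (L : Over (Spec (CommRingCat.of K))) (i : L ⟶ (SGA7.genFib R K).obj N),
      AlgGrp.IsKernel i ((SGA7.genFib R K).map u) → IsFinite L.hom)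
    (_ : SGA7.FibreUnipotentRankZero (closedPoint R) P),
    SGA7.FibreUnipotentRankZero (closedPoint R) N

/-- (PSSR) Potential semistable reduction: after a finite separable extension the Neron model has no `G_a` in the
special fibre. -/
def PSSR : Prop :=
  ∀ (R K : Type u) [CommRing R] [IsDomain R] [IsDiscreteValuationRing R] [HenselianLocalRing R]
    [IsSepClosed (ResidueField R)] [Field K] [Algebra R K] [IsFractionRing R K]
    (A : Over (Spec (CommRingCat.of K))) [GrpObj A] [IsProper A.hom] [GeometricallyIntegral A.hom],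
    ∃ (K' : Type u) (_ : Field K') (_ : Algebra K K') (_ : FiniteDimensional K K')
      (_ : Algebra.IsSeparable K K') (R' : Type u) (_ : CommRing R') (_ : IsDomain R')
      (_ : IsDiscreteValuationRing R') (_ : HenselianLocalRing R') (_ : IsSepClosed (ResidueField R'))
      (_ : Algebra R R') (_ : IsLocalHom (algebraMap R R')) (_ : Algebra R' K') (_ : IsFractionRing R' K')
      (_ : Algebra R K') (_ : IsScalarTower R K K') (_ : IsScalarTower R R' K'),
      ∀ (N : Over (Spec (CommRingCat.of R'))) [GrpObj N] (_ : SGA7.IsNeron R' K' N)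
        (e : (SGA7.genFib R' K').obj N ≅ Red.bc (Spec.map (CommRingCat.ofHom (algebraMap K K'))) A)
        (_ : IsMonHom e.hom), SGA7.FibreUnipotentRankZero (closedPoint R') N

/-- (CORE) Over a strictly henselian discrete valuation ring: if the Galois group acts with level two on the `ℓ`-power
torsion then there is no `G_a` in the special fibre of the Neron model. -/
def CORE : Prop :=
  ∀ (R K Ω : Type u) [CommRing R] [IsDomain R] [IsDiscreteValuationRing R] [HenselianLocalRing R]
    [IsSepClosed (ResidueField R)] [Field K] [Algebra R K] [IsFractionRing R K] [Field Ω] [Algebra K Ω]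
    [IsSepClosure K Ω] (ℓ : ℕ) (_ : ℓ.Prime) (_ : (ℓ : ResidueField R) ≠ 0)
    (A : Over (Spec (CommRingCat.of K))) [GrpObj A] [IsProper A.hom] [GeometricallyIntegral A.hom]
    (_ : ∀ (ν : ℕ) (σ τ : Ω ≃ₐ[K] Ω) (x : SGA7.Pts Ω A), x ^ (ℓ ^ ν) = 1 → SGA7.dev σ (SGA7.dev τ x) = 1)
    (N : Over (Spec (CommRingCat.of R))) [GrpObj N] (_ : SGA7.IsNeron R K N)
    (e : (SGA7.genFib R K).obj N ≅ A) (_ : IsMonHom e.hom), SGA7.FibreUnipotentRankZero (closedPoint R) N

end Groth.Agent.Sga7.H732.Hedge
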