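import Groth.Agent.Sga7.H732.Hedge
import Groth.Agent.Fga.JacFib
import Groth.Agent.Fga.JacRR

/-!
# The Abel map of a curve and injectivity of the class map of the Jacobian
-/

set_option autoImplicit false

universe u

open CategoryTheory CategoryTheory.Limits AlgebraicGeometry MonObj MonoidalCategory
  CartesianMonoidalCategory

namespace Groth.Agent.Sga7.H732.Abel

open Groth.Agent.Grpsch.PicGrp Groth.Agent.Fga.RigGrp Groth.Agent.Fga.JacSum Groth.Agent.Fga
open Hedge

section general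

variable {S C : Scheme.{u}} {f : C ⟶ S} {σ : S ⟶ C} {hσ : σ ≫ f = 𝟙 S} {J : Over S} [GrpObj J]
  {ξ : Pic (PicF.XT f J)} (hJ : IsJac f σ hσ J ξ)

include hJ

theorem pull_one (T : Over S) : pull (PicF.XTmap f (1 : T ⟶ J)) ξ = 1 := by
  have h1 := hJ.mul (1 : T ⟶ J) 1
  rw [_root_.mul_one] at h1
  exact (mul_eq_left.mp h1.symm)

/-- The class of a point of the Jacobian, as a homomorphism. -/
noncomputable def cls (T : Over S) : (T ⟶ J) →* Pic (PicF.XT f T) where
  toFun g := pull (PicF.XTmap f g) ξ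
  map_one' := pull_one hJ T
  map_mul' g h := hJ.mul g h

theorem cls_apply {T : Over S} (g : T ⟶ J) : cls hJ T g = pull (PicF.XTmap f g) ξ := rfl

theorem cls_comp {T T' : Over S} (h : T' ⟶ T) (g : T ⟶ J) :
    cls hJ T' (h ≫ g) = pull (PicF.XTmap f h) (cls hJ T g) := by
  rw [cls_apply, cls_apply, XTmap_comp, pull_comp]

theorem cls_mem {T : Over S} (g : T ⟶ J) : cls hJ T g ∈ Rg f σ hσ T := pull_mem _ hJ.mem

end general

section field

variable {k : Type u} [Field k] {C : Scheme.{u}} {f : C ⟶ Spec (CommRingCat.of k)}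
  {σ : Spec (CommRingCat.of k) ⟶ C} {hσ : σ ≫ f = 𝟙 _} {J : Over (Spec (CommRingCat.of k))} [GrpObj J]
  {ξ : Pic (PicF.XT f J)} (hJ : IsJac f σ hσ J ξ)

theorem deg_iff [QuasiCompact f] [IsSeparated f] (T : Over (Spec (CommRingCat.of k))) (c : Pic (PicF.XT f T)) :
    FGA.HasFibreDegreeZeroCl f T (toCl c) ↔ ∀ τ : T.left, JacSurj.chiAt f T τ c = JacSurj.chiAt f T τ 1 :=
  JacFib.fibStep f T c

theorem deg_pull [QuasiCompact f] [IsSeparated f] {T T' : Over (Spec (CommRingCat.of k))} (g : T' ⟶ T) (c : Pic (PicF.XT f T))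
    (hc : FGA.HasFibreDegreeZeroCl f T (toCl c)) :
    FGA.HasFibreDegreeZeroCl f T' (toCl (pull (PicF.XTmap f g) c)) := by
  rw [deg_iff] at hc ⊢
  intro τ
  rw [JacSurj.chiAt_pull (JacFib.bcStep f), hc]
  have h1 := JacSurj.chiAt_pull (JacFib.bcStep f) g τ 1
  rw [map_one] at h1
  exact h1.symm

include hJ in
theorem cls_injective [QuasiCompact f] [IsSeparated f] (T : Over (Spec (CommRingCat.of k))) : Function.Injective (cls hJ T) := by
  intro g h hgh
  obtain ⟨_, _, huniq⟩ := hJ.univ T (cls hJ T g) (pull_mem _ hJ.mem) (deg_pull g ξ hJ.deg)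
  exact (huniq g rfl).trans (huniq h hgh.symm).symm

/-- a point of the curve as a morphism over the base. -/
noncomputable def ptHom {T : Over (Spec (CommRingCat.of k))} (z : Pt f T) : T ⟶ Over.mk f := Over.homMk z.1 z.2

/-- the tautological point. -/
noncomputable def idPt : Pt f (Over.mk f) := ⟨𝟙 C, Category.id_comp _⟩

theorem idPt_comp {T : Over (Spec (CommRingCat.of k))} (z : Pt f T) : (idPt (f := f)).comp (ptHom z) = z :=
  Subtype.ext (Category.comp_id _)

variable [SmoothOfRelativeDimension 1 f] [IsSeparated f] [QuasiCompact f]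

theorem deg_acl (hX : Curve.IsSmoothProperCurve k C f) {T : Over (Spec (CommRingCat.of k))} (z : Pt f T) :
    FGA.HasFibreDegreeZeroCl f T (toCl (acl f σ hσ z)) := by
  rw [deg_iff]
  intro τ
  have h := JacSurj.chiK_prod_acl (f := f) (JacRR.rrStep f hX) σ hσ
    (JacSurj.fsr T.left τ ≫ T.hom) (fun _ : Fin 1 => z.comp (JacSurj.ofHom T (JacSurj.fsr T.left τ)))
  rw [Fin.prod_univ_one, ← pull_acl] at h
  rw [JacSurj.chiAt, JacSurj.chiPt, h, JacSurj.chiAt, JacSurj.chiPt, map_one]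

include hJ in
/-- The Abel map. -/
theorem exists_abel (hX : Curve.IsSmoothProperCurve k C f) :
    ∃ α : Over.mk f ⟶ J, ∀ (T : Over (Spec (CommRingCat.of k))) (z : Pt f T),
      cls hJ T (ptHom z ≫ α) = acl f σ hσ z := by
  obtain ⟨α, hα, -⟩ := hJ.univ (Over.mk f) (acl f σ hσ idPt) (acl_mem f σ hσ _) (deg_acl hX _)
  refine ⟨α, fun T z => ?_⟩
  rw [cls_comp, cls_apply, hα, pull_acl, idPt_comp]

include hJ in
theorem eq_prod [IsCommMonObj J] {α : Over.mk f ⟶ J} (hα : ∀ (T : Over (Spec (CommRingCat.of k))) (z : Pt f T),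
      cls hJ T (ptHom z ≫ α) = acl f σ hσ z) (K : Type u) [Field K]
    (t : Spec (CommRingCat.of K) ⟶ Spec (CommRingCat.of k)) {n : ℕ} (z z' : Fin n → Pt f (Over.mk t))
    (g : Over.mk t ⟶ J) (hg : pull (PicF.XTmap f g) ξ = ∏ i, ((gcl f (z' i))⁻¹ * gcl f (z i))) :
    g = ∏ i, ((ptHom (z' i) ≫ α) * (ptHom (z i) ≫ α)⁻¹) := by
  apply cls_injective hJ
  rw [map_prod]
  refine hg.trans (Finset.prod_congr rfl fun i _ => ?_)
  rw [map_mul, map_inv, hα, hα, JacAlg.acl_field, JacAlg.acl_field]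
  group

end field

end Groth.Agent.Sga7.H732.Abel
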