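import Groth.Agent.Sga7.H738.GaBc

/-!
# A closed additive group in a geometric fibre, over any algebraically closed extension
-/

set_option autoImplicit false
set_option linter.all false

universe u

open CategoryTheory MonoidalCategory CartesianMonoidalCategory MonObj GrpObj AlgebraicGeometry

namespace Groth.Agent.Sga7.H732.GaPt

open Groth.Agent.Sga7.H738.GaBc Groth.Agent.Sga3B Groth.Agent.Sga3B.GaPts

variable {S : Scheme.{u}}

/-- Every geometric point factors through a standard geometric point. -/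
theorem exists_lift_geomPt (k : Type u) [Field k] [IsAlgClosed k] (t : Spec (CommRingCat.of k) ⟶ S) (s : S)
    (hs : ∀ x, t x = s) :
    ∃ e : AlgebraicClosure (S.residueField s) →+* k, Spec.map (CommRingCat.ofHom e) ≫ Red.geomPt s = t := by
  let sφ := Scheme.SpecToEquivOfField k S t
  have hg : Spec.map sφ.2 ≫ S.fromSpecResidueField sφ.1 = t :=
    (Scheme.SpecToEquivOfField k S).symm_apply_apply t
  obtain ⟨s', φ⟩ := sφ
  simp only at hg
  have h1 : s' = s := by
    rw [← hs (default : PrimeSpectrum k), ← hg, Scheme.Hom.comp_apply, Scheme.fromSpecResidueField_apply]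
  subst h1
  let _ : Algebra (S.residueField s') k := φ.hom.toAlgebra
  let ψ : AlgebraicClosure (S.residueField s') →ₐ[S.residueField s'] k := IsAlgClosed.lift
  refine ⟨ψ.toRingHom, ?_⟩
  rw [← hg, Red.geomPt, ← Category.assoc, ← Spec.map_comp]
  congr 2
  ext x
  exact ψ.commutes x

/-- A closed subgroup `𝔾_a` of the geometric fibre gives a monomorphism from `𝔾_a` over any algebraically closed
field over that point. -/
theorem exists_mono_ga {s : S} (G : Over S) [GrpObj G]
    (j : Red.Ga (Spec (CommRingCat.of (AlgebraicClosure (S.residueField s)))) ⟶ Red.geomFibre s G)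
    (hj : IsMonHom j) (hj' : IsClosedImmersion j.left)
    (k : Type u) [Field k] [IsAlgClosed k] (t : Spec (CommRingCat.of k) ⟶ S)
    (hs : ∀ x, t x = s) :
    ∃ j' : Red.Ga (Spec (CommRingCat.of k)) ⟶ Red.bc t G, IsMonHom j' ∧ Mono j' := by
  obtain ⟨e, he⟩ := exists_lift_geomPt k t s hs
  let a := gaIso (Spec.map (CommRingCat.ofHom e))
  let b : Grp.mk (Red.bc t G) ≅ Grp.mk (Red.bc (Spec.map (CommRingCat.ofHom e)) (Red.bc (Red.geomPt s) G)) :=
    BcIso.bcCongrIso he.symm G ≪≫ BcIso.bcCompIso (Spec.map (CommRingCat.ofHom e)) (Red.geomPt s) G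
  have ha : IsMonHom a.inv.hom.hom := a.inv.hom.isMonHom_hom
  have hb : IsMonHom b.inv.hom.hom := b.inv.hom.isMonHom_hom
  have ha' : IsIso a.inv.hom.hom := by
    have h1 : a.inv.hom.hom ≫ a.hom.hom.hom = 𝟙 _ := congrArg (fun z => z.hom.hom) a.inv_hom_id
    have h2 : a.hom.hom.hom ≫ a.inv.hom.hom = 𝟙 _ := congrArg (fun z => z.hom.hom) a.hom_inv_id
    exact ⟨_, h1, h2⟩
  have hb' : IsIso b.inv.hom.hom := by
    have h1 : b.inv.hom.hom ≫ b.hom.hom.hom = 𝟙 _ := congrArg (fun z => z.hom.hom) b.inv_hom_id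
    have h2 : b.hom.hom.hom ≫ b.inv.hom.hom = 𝟙 _ := congrArg (fun z => z.hom.hom) b.hom_inv_id
    exact ⟨_, h1, h2⟩
  have hjm : Mono j := by
    have : Mono j.left := inferInstance
    exact Over.mono_of_mono_left j
  have hjm' : Mono ((Over.pullback (Spec.map (CommRingCat.ofHom e))).map j) := inferInstance
  exact ⟨a.inv.hom.hom ≫ (Over.pullback (Spec.map (CommRingCat.ofHom e))).map j ≫ b.inv.hom.hom,
    inferInstance, inferInstance⟩

/-- A monomorphism from `𝔾_a` is non-trivial on points. -/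
theorem exists_pt_ne_one (k : Type u) [Field k] {G : Over (Spec (CommRingCat.of k))} [GrpObj G]
    (j : Red.Ga (Spec (CommRingCat.of k)) ⟶ G) [Mono j] :
    ∃ t : 𝟙_ (Over (Spec (CommRingCat.of k))) ⟶ Red.Ga (Spec (CommRingCat.of k)), t ≫ j ≠ 1 ≫ j := by
  refine ⟨gaPt (𝟙_ _) 1, fun h => ?_⟩
  have h2 := congrArg Red.gaFn ((cancel_mono j).mp h)
  rw [gaFn_one, gaFn_gaPt] at h2
  have : Nontrivial Γ((𝟙_ (Over (Spec (CommRingCat.of k)))).left, ⊤) := by
    change Nontrivial Γ(Spec (CommRingCat.of k), ⊤)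
    have : Nonempty (⊤ : (Spec (CommRingCat.of k)).Opens) := ⟨⟨Classical.arbitrary _, trivial⟩⟩
    infer_instance
  exact one_ne_zero h2

end Groth.Agent.Sga7.H732.GaPt
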