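import Groth.Prelude.Def_Models
import Groth.Agent.Ega4A.RegEtale
import Mathlib.AlgebraicGeometry.Morphisms.Smooth
import Mathlib.AlgebraicGeometry.Noetherian

/-!
# Schemes smooth over a regular scheme are regular
-/

set_option autoImplicit false

universe u

open CategoryTheory AlgebraicGeometry

namespace Groth.Agent.Sga7.H732.Reg

theorem stalkRegular_of_ring {X : Scheme.{u}} {V : X.Opens} (hV : IsAffineOpen V) [IsRegularRing Γ(X, V)]
    {x : X} (hx : x ∈ V) : IsRegularLocalRing (X.presheaf.stalk x) := by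
  let _ := X.presheaf.algebra_section_stalk ⟨x, hx⟩
  have := hV.isLocalization_stalk ⟨x, hx⟩
  exact IsRegularLocalRing.of_ringEquiv
    (IsLocalization.algEquiv (hV.primeIdealOf ⟨x, hx⟩).asIdeal.primeCompl
      (Localization.AtPrime (hV.primeIdealOf ⟨x, hx⟩).asIdeal) (X.presheaf.stalk x)).toRingEquiv

theorem ring_of_stalkRegular {X : Scheme.{u}} {V : X.Opens} (hV : IsAffineOpen V) [IsNoetherianRing Γ(X, V)]
    (h : ∀ x ∈ V, IsRegularLocalRing (X.presheaf.stalk x)) : IsRegularRing Γ(X, V) := by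
  rw [isRegularRing_iff]
  intro p hp
  have h0 : hV.fromSpec ⟨p, hp⟩ ∈ V := by
    have : hV.fromSpec ⟨p, hp⟩ ∈ Set.range hV.fromSpec := ⟨_, rfl⟩
    rwa [hV.range_fromSpec] at this
  have h1 := h _ h0
  let _ := X.presheaf.algebra_section_stalk ⟨_, h0⟩
  have := hV.isLocalization_stalk ⟨_, h0⟩
  have hx : hV.primeIdealOf ⟨_, h0⟩ = ⟨p, hp⟩ := by
    apply hV.fromSpec.isOpenEmbedding.injective
    exact hV.fromSpec_primeIdealOf ⟨_, h0⟩
  have h2 : p = (hV.primeIdealOf ⟨_, h0⟩).asIdeal := by rw [hx]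
  have h3 : IsRegularLocalRing (Localization.AtPrime (hV.primeIdealOf ⟨_, h0⟩).asIdeal) :=
    IsRegularLocalRing.of_ringEquiv
      (IsLocalization.algEquiv (hV.primeIdealOf ⟨_, h0⟩).asIdeal.primeCompl
      (Localization.AtPrime (hV.primeIdealOf ⟨_, h0⟩).asIdeal)
        (X.presheaf.stalk (hV.fromSpec ⟨p, hp⟩))).toRingEquiv.symm
  revert h3
  generalize (hV.primeIdealOf ⟨_, h0⟩) = q at hx ⊢
  subst hx
  exact fun h => h

/-- A scheme smooth over a regular scheme is regular. -/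
theorem isRegularScheme_of_smooth {X Y : Scheme.{u}} [IsLocallyNoetherian X] (f : Y ⟶ X) [Smooth f]
    (hX : Models.IsRegularScheme X) : Models.IsRegularScheme Y := by
  intro y
  obtain ⟨_, ⟨U, hU, rfl⟩, hxU, -⟩ :=
    X.isBasis_affineOpens.exists_subset_of_mem_open (Set.mem_univ (f y)) isOpen_univ
  obtain ⟨_, ⟨V, hV, rfl⟩, hyV, hVU⟩ :=
    Y.isBasis_affineOpens.exists_subset_of_mem_open (show y ∈ (f ⁻¹ᵁ U : Y.Opens) from hxU) (f ⁻¹ᵁ U).isOpen
  have hsm := f.smooth_appLE hU hV hVU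
  algebraize [(f.appLE U V hVU).hom]
  have : IsNoetherianRing Γ(X, U) := IsLocallyNoetherian.component_noetherian ⟨U, hU⟩
  have h1 : IsRegularRing Γ(X, U) := ring_of_stalkRegular hU fun x _ => hX x
  have h2 : Algebra.Smooth Γ(X, U) Γ(Y, V) := hsm
  have h3 : IsRegularRing Γ(Y, V) :=
    Groth.Agent.Ega4A.RegEtale.isRegularRing_of_smooth Γ(X, U) Γ(Y, V)
  exact stalkRegular_of_ring hV hyV

end Groth.Agent.Sga7.H732.Reg
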