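import Groth.Agent.Sga7.H732.Res

/-!
# Homotopy invariance applied to a family of points of a model
-/

set_option autoImplicit false
set_option linter.all false

universe u

open CategoryTheory CategoryTheory.Limits AlgebraicGeometry MonObj MonoidalCategory
  CartesianMonoidalCategory

namespace Groth.Agent.Sga7.H732.Const

open Groth.Agent.Grpsch.PicGrp Groth.Agent.Fga.RigGrp Groth.Agent.Fga.JacSum Groth.Agent.Fga
open Groth.Agent.Sga67.TorsionLift
open Hedge Abel Res

variable {S S' : Scheme.{u}} (t₀ : S' ⟶ S) {N : Over S}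

/-- Sections of a base change as points. -/
noncomputable def bpt (x : 𝟙_ (Over S') ⟶ Red.bc t₀ N) : Over.mk t₀ ⟶ N :=
  Over.homMk (x.left ≫ pullback.fst N.hom t₀) (by
    rw [Category.assoc, pullback.condition, ← Category.assoc]
    have h : x.left ≫ pullback.snd N.hom t₀ = 𝟙 _ := Over.w x
    rw [h]
    exact Category.id_comp _)

theorem bpt_left (x : 𝟙_ (Over S') ⟶ Red.bc t₀ N) : (bpt t₀ x).left = x.left ≫ pullback.fst N.hom t₀ := rfl

theorem bpt_injective : Function.Injective (bpt t₀ (N := N)) := by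
  intro x y h
  apply Over.OverMorphism.ext
  apply pullback.hom_ext
  · exact congrArg (fun w => w.left) h
  · have h : x.left ≫ pullback.snd N.hom t₀ = 𝟙 _ := Over.w x
    have h' : y.left ≫ pullback.snd N.hom t₀ = 𝟙 _ := Over.w y
    exact h.trans h'.symm

theorem bpt_one [GrpObj N] : bpt t₀ (1 : 𝟙_ (Over S') ⟶ Red.bc t₀ N) = 1 := by
  apply Over.OverMorphism.ext
  rw [bpt_left, ← bcPts_left, map_one]
  have h : (1 : (Over.map t₀).obj (𝟙_ (Over S')) ⟶ N) =
      (Over.homMk (𝟙 _) : (Over.map t₀).obj (𝟙_ (Over S')) ⟶ Over.mk t₀) ≫ (1 : Over.mk t₀ ⟶ N) :=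
    (MonObj.comp_one _).symm
  rw [h, Over.comp_left]
  exact Category.id_comp _

variable {X : Scheme.{u}} (p : X ⟶ S)

theorem bpt_const {G : Over S'} (j : G ⟶ Red.bc t₀ N) (Ξ : Pic (PicF.XT p N)) (t t' : 𝟙_ (Over S') ⟶ G)
    (h : ∀ c : Pic (PicF.XT (PicF.XTproj p (Over.mk t₀)) G),
      pull (PicF.XTmap (PicF.XTproj p (Over.mk t₀)) t) c = pull (PicF.XTmap (PicF.XTproj p (Over.mk t₀)) t') c) :
    pull (PicF.XTmap p (bpt t₀ (t ≫ j))) Ξ = pull (PicF.XTmap p (bpt t₀ (t' ≫ j))) Ξ := by
  let g₀ := PicF.XTproj p (Over.mk t₀)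
  let w : PicF.XT g₀ G ⟶ PicF.XT p N :=
    pullback.lift (pullback.fst g₀ G.hom ≫ pullback.fst p t₀) (pullback.snd g₀ G.hom ≫ j.left ≫ pullback.fst N.hom t₀)
      (by
        rw [Category.assoc, Category.assoc, Category.assoc, pullback.condition (f := N.hom), pullback.condition (f := p)]
        have h1 : j.left ≫ pullback.snd N.hom t₀ = G.hom := Over.w j
        have h2 : pullback.fst g₀ G.hom ≫ pullback.snd p t₀ = pullback.snd g₀ G.hom ≫ G.hom := pullback.condition
        rw [← Category.assoc, h2, ← Category.assoc j.left, h1, Category.assoc])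
  let i : PicF.XT g₀ (𝟙_ (Over S')) ⟶ PicF.XT p (Over.mk t₀) := pullback.fst g₀ (𝟙 S')
  have hi : IsIso i := inferInstance
  have hw : ∀ t : 𝟙_ (Over S') ⟶ G, PicF.XTmap g₀ t ≫ w = i ≫ PicF.XTmap p (bpt t₀ (t ≫ j)) := by
    intro t
    apply pullback.hom_ext
    · rw [Category.assoc, Category.assoc, XTmap_fst, pullback.lift_fst, ← Category.assoc, XTmap_fst]
      rfl
    · have h1 := XTmap_XTproj (f := p) (bpt t₀ (t ≫ j))
      have h2 := XTmap_XTproj (f := g₀) t
      simp only [PicF.XTproj] at h1 h2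
      rw [Category.assoc, Category.assoc, h1, pullback.lift_snd, ← Category.assoc]
      have h3 : PicF.XTmap g₀ t ≫ pullback.snd g₀ G.hom = pullback.snd g₀ (𝟙_ (Over S')).hom ≫ t.left := h2
      rw [h3, bpt_left, Over.comp_left]
      have h4 : i ≫ pullback.snd p t₀ = pullback.snd g₀ (𝟙_ (Over S')).hom := by
        have := (pullback.condition (f := g₀) (g := 𝟙 S'))
        rw [Category.comp_id] at this
        exact this
      rw [← h4]
      simp only [Category.assoc]
      rfl
  have h5 := h (pull w Ξ)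
  rw [← pull_comp, ← pull_comp] at h5
  change pull (PicF.XTmap g₀ t ≫ w) Ξ = pull (PicF.XTmap g₀ t' ≫ w) Ξ at h5
  rw [hw, hw, pull_comp, pull_comp] at h5
  have h6 := congrArg (pull (inv i)) h5
  rwa [← pull_comp, ← pull_comp, ← pull_comp, ← pull_comp, IsIso.inv_hom_id, Category.id_comp, Category.id_comp] at h6

end Groth.Agent.Sga7.H732.Const
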