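import Groth.Agent.Sga7.H736.BasePts
import Groth.Agent.Sga7.H274.ValConj
import Groth.Prelude.Def_SGA7IX
import Mathlib.FieldTheory.Galois.Infinite

/-!
# Local part of the semistable reduction theorem

`S₀ → K` a discrete valuation ring with fraction field, `E / K` finite Galois inside `Ω`, `S → E` a discrete
valuation ring with fraction field `E` dominating `S₀`.  If the elements of the inertia group at `W` fixing `E` act
with level two on `A[ℓ^∞]` then `A_E` has semistable reduction over `S`.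
-/

set_option autoImplicit false

universe u

open CategoryTheory CategoryTheory.Limits AlgebraicGeometry MonObj
open SGA7

namespace Groth.Agent.Sga7.H732.Local

open Groth.Agent.Sga7.H736.BasePts Groth.Agent.Sga7.H274.ValConj S3210

/-- Existence of a valuation subring of `Ω` dominating a local ring. -/
theorem exists_liesOver (S E Ω : Type u) [CommRing S] [IsLocalRing S] [Field E] [Algebra S E] [Field Ω]
    [Algebra E Ω] : ∃ W : ValuationSubring Ω, LiesOver E S W := by
  obtain ⟨W, h, hloc⟩ := IsLocalRing.exists_factor_valuationRing ((algebraMap E Ω).comp (algebraMap S E))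
  refine ⟨W, h, ?_⟩
  intro r hr
  have h1 : ¬ IsUnit (((algebraMap E Ω).comp (algebraMap S E)).codRestrict W.toSubring h r) := by
    intro hu
    have h2 := hloc.map_nonunit r hu
    exact (IsLocalRing.mem_maximalIdeal r).1 hr h2
  exact (ValuationSubring.valuation_lt_one_iff W _).1 ((IsLocalRing.mem_maximalIdeal _).2 h1)

/-- The implication (iv) ⇒ (i) of S4048. -/
def SSOfLevelTwo : Prop :=
  ∀ (R K Ω : Type u) [CommRing R] [IsDomain R] [IsDiscreteValuationRing R] [Field K]
    [Algebra R K] [IsFractionRing R K] [Field Ω] [Algebra K Ω] [IsSepClosure K Ω]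
    (W : ValuationSubring Ω) (_ : SGA7.LiesOver K R W)
    (ℓ : ℕ) (_ : ℓ.Prime) (_ : (ℓ : IsLocalRing.ResidueField R) ≠ 0)
    (A : Over (Spec (CommRingCat.of K))) [GrpObj A] [IsProper A.hom] [GeometricallyIntegral A.hom]
    (_ : SGA7.InertiaLevelTwoOn W A ℓ), SGA7.HasSemistableReduction R K A

/-- `ℓ` is nonzero in the residue field of a local algebra. -/
theorem natCast_ne_zero {R S : Type u} [CommRing R] [IsLocalRing R] [CommRing S] [IsLocalRing S]
    (f : R →+* S) (ℓ : ℕ) (hℓp : (ℓ : IsLocalRing.ResidueField R) ≠ 0) :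
    (ℓ : IsLocalRing.ResidueField S) ≠ 0 := by
  have hu : IsUnit (ℓ : R) := by
    by_contra hcon
    apply hℓp
    have : IsLocalRing.residue R (ℓ : R) = 0 := (IsLocalRing.residue_eq_zero_iff _).2 hcon
    rwa [map_natCast] at this
  have hu' : IsUnit (ℓ : S) := by
    have h1 := hu.map f
    rwa [map_natCast] at h1
  have h2 := hu'.map (IsLocalRing.residue S)
  rw [map_natCast] at h2
  exact h2.ne_zero

variable {K E Ω : Type u} [Field K] [Field E] [Algebra K E] [Field Ω] [Algebra K Ω] [Algebra E Ω]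
  [IsScalarTower K E Ω]

/-- The conjugate of an `E`-automorphism by a `K`-automorphism, for `E / K` normal. -/
theorem exists_conj_fix [Normal K E] (τ : Ω ≃ₐ[K] Ω) (σ : Ω ≃ₐ[E] Ω) :
    ∃ ρ : Ω ≃ₐ[E] Ω, ρ.restrictScalars K = τ⁻¹ * σ.restrictScalars K * τ := by
  have hfix : ∀ k : E, (τ⁻¹ * σ.restrictScalars K * τ) (algebraMap E Ω k) = algebraMap E Ω k := by
    intro k
    have h1 : ∃ k' : E, τ (algebraMap E Ω k) = algebraMap E Ω k' := by
      refine ⟨τ.restrictNormal E k, ?_⟩
      rw [AlgEquiv.restrictNormal_commutes]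
    obtain ⟨k', hk'⟩ := h1
    change τ⁻¹ (σ (τ (algebraMap E Ω k))) = _
    rw [hk', AlgEquiv.commutes, ← hk']
    simp
  refine ⟨AlgEquiv.ofRingEquiv (f := (τ⁻¹ * σ.restrictScalars K * τ).toRingEquiv) hfix, ?_⟩
  ext z
  rfl

theorem ptsEquiv_dev {A : Over (Spec (CommRingCat.of K))} [GrpObj A] (σ : Ω ≃ₐ[E] Ω)
    (x : pt (K := E) Ω ⟶ Red.bc (fRK K E) A) :
    ptsEquiv A (dev σ x) = dev (σ.restrictScalars K) (ptsEquiv A x) := by
  have h1 : dev σ x = galAct σ x * x⁻¹ := rfl
  rw [h1, map_mul, map_inv, ptsEquiv_galAct]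
  rfl

/-- Semistable reduction over a discrete valuation ring of `E` dominating `S₀`. -/
theorem semistable_local (h48 : SSOfLevelTwo.{u}) {S₀ : Type u} [CommRing S₀] [IsDomain S₀]
    [IsDiscreteValuationRing S₀] [Algebra S₀ K] [IsFractionRing S₀ K] [IsSepClosure K Ω]
    [FiniteDimensional K E] [IsGalois K E]
    (W : ValuationSubring Ω) (hW : SGA7.LiesOver K S₀ W)
    (ℓ : ℕ) (hℓ : ℓ.Prime) (hℓp : (ℓ : IsLocalRing.ResidueField S₀) ≠ 0)
    (A : Over (Spec (CommRingCat.of K))) [GrpObj A] [IsProper A.hom] [GeometricallyIntegral A.hom]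
    (h : ∀ σ τ : Ω ≃ₐ[E] Ω, IsInertia W σ → IsInertia W τ → ∀ (ν : ℕ) (x : pt (K := K) Ω ⟶ A),
      x ^ (ℓ ^ ν) = 1 → dev (σ.restrictScalars K) (dev (τ.restrictScalars K) x) = 1)
    (S : Type u) [CommRing S] [IsDomain S] [IsDiscreteValuationRing S] [Algebra S E] [IsFractionRing S E]
    [Algebra S₀ S] [IsLocalHom (algebraMap S₀ S)]
    (hcomp : ∀ r : S₀, algebraMap S E (algebraMap S₀ S r) = algebraMap K E (algebraMap S₀ K r)) :
    HasSemistableReduction S E (Red.bc (fRK K E) A) := by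
  have hp : IsProper (Red.bc (fRK K E) A).hom := by
    change IsProper (pullback.snd A.hom _)
    infer_instance
  have hg : GeometricallyIntegral (Red.bc (fRK K E) A).hom := by
    change GeometricallyIntegral (pullback.snd A.hom _)
    infer_instance
  have hsep : Algebra.IsSeparable K Ω := IsSepClosure.separable
  have hgal : IsGalois K Ω := inferInstance
  have : IsSepClosure E Ω := ⟨IsSepClosure.sep_closed K,
    Algebra.isSeparable_tower_top_of_isSeparable K E Ω⟩
  obtain ⟨W', hW'⟩ := exists_liesOver S E Ω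
  have hW₀ : LiesOver K S₀ W' := by
    constructor
    · intro r
      rw [IsScalarTower.algebraMap_apply K E Ω, ← hcomp]
      exact hW'.1 _
    · intro r hr
      rw [IsScalarTower.algebraMap_apply K E Ω, ← hcomp]
      refine hW'.2 _ ?_
      exact (IsLocalRing.mem_maximalIdeal _).2
        ((map_mem_nonunits_iff (algebraMap S₀ S) r).2 ((IsLocalRing.mem_maximalIdeal r).1 hr))
  obtain ⟨τ, hτ⟩ := exists_algEquiv hW hW₀
  refine h48 S E Ω W' hW' ℓ hℓ (natCast_ne_zero (algebraMap S₀ S) ℓ hℓp) _ ?_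
  intro ν σ ρ hσ hρ x hx
  apply (ptsEquiv (K' := E) A).injective
  rw [ptsEquiv_dev, ptsEquiv_dev, map_one]
  set y : pt (K := K) Ω ⟶ A := ptsEquiv A x with hy
  have hy1 : y ^ (ℓ ^ ν) = 1 := by rw [hy, ← map_pow, hx, map_one]
  obtain ⟨σ', hσ'⟩ := exists_conj_fix (K := K) τ σ
  obtain ⟨ρ', hρ'⟩ := exists_conj_fix (K := K) τ ρ
  have hin : ∀ (φ : Ω ≃ₐ[E] Ω) (φ' : Ω ≃ₐ[E] Ω), φ'.restrictScalars K = τ⁻¹ * φ.restrictScalars K * τ →
      IsInertia W' φ → IsInertia W φ' := by
    intro φ φ' h1 h2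
    have h3 : IsInertia W (τ⁻¹ * φ.restrictScalars K * τ⁻¹⁻¹) :=
      isInertia_conj (symm_mem_iff hτ) (show IsInertia W' (φ.restrictScalars K) from h2)
    rw [inv_inv, ← h1] at h3
    exact h3
  have h1 := h σ' ρ' (hin σ σ' hσ' hσ) (hin ρ ρ' hρ' hρ) ν (galAct τ⁻¹ y)
    (by rw [← galAct_map_pow, hy1, galAct_map_one])
  have h2 := congrArg (galAct τ) h1
  rw [galAct_dev, galAct_dev, galAct_galAct_inv, galAct_map_one, hσ', hρ'] at h2
  have e : ∀ φ : Ω ≃ₐ[K] Ω, τ * (τ⁻¹ * φ * τ) * τ⁻¹ = φ := by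
    intro φ
    group
  rw [e, e] at h2
  exact h2

end Groth.Agent.Sga7.H732.Local
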