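import Groth.Agent.Sga7.H732.Abel
import Groth.Agent.Sga67.TorsionLift
import Mathlib.AlgebraicGeometry.Morphisms.Separated

/-!
# Extension of the universal class to a model of the Jacobian, and restriction to the generic fibre
-/

set_option autoImplicit false
set_option linter.all false

universe u

open CategoryTheory CategoryTheory.Limits AlgebraicGeometry MonObj MonoidalCategory
  CartesianMonoidalCategory

namespace Groth.Agent.Sga7.H732.Res

open Groth.Agent.Grpsch.PicGrp Groth.Agent.Fga.RigGrp Groth.Agent.Fga.JacSum Groth.Agent.Fga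
open Groth.Agent.Sga67.TorsionLift
open Hedge Abel

variable {S S' : Scheme.{u}} (v : S' ⟶ S)

/-- Points of a base change, as a group isomorphism. -/
noncomputable def bcPts (N : Over S) [GrpObj N] (X : Over S') :
    (X ⟶ Red.bc v N) ≃* ((Over.map v).obj X ⟶ N) :=
  MulEquiv.mk' ((Over.mapPullbackAdj v).homEquiv X N).symm
    (fun a b => homEquiv_symm_mul (Over.mapPullbackAdj v) a b)

theorem bcPts_left (N : Over S) [GrpObj N] (X : Over S') (x : X ⟶ Red.bc v N) :
    (bcPts v N X x).left = x.left ≫ pullback.fst N.hom v := by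
  change (((Over.mapPullbackAdj v).homEquiv X N).symm x).left = _
  rw [Adjunction.homEquiv_counit]
  simp

/-- Restriction of `T`-points of `N` to `T'`-points of the base change, for `T' → T` over `S' → S`. -/
noncomputable def resK (N : Over S) [GrpObj N] {T : Over S} {T' : Over S'} (a : (Over.map v).obj T' ⟶ T) :
    (T ⟶ N) →* (T' ⟶ Red.bc v N) where
  toFun g := (bcPts v N T').symm (a ≫ g)
  map_one' := by rw [MonObj.comp_one, map_one]
  map_mul' g h := by rw [MonObj.comp_mul, map_mul]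

theorem resK_left (N : Over S) [GrpObj N] {T : Over S} {T' : Over S'} (a : (Over.map v).obj T' ⟶ T) (g : T ⟶ N) :
    (resK v N a g).left ≫ pullback.fst N.hom v = a.left ≫ g.left := by
  rw [← bcPts_left]
  change ((bcPts v N T') ((bcPts v N T').symm (a ≫ g))).left = _
  rw [MulEquiv.apply_symm_apply, Over.comp_left]

variable {X C : Scheme.{u}} {p : X ⟶ S} {f : C ⟶ S'} {c : C ⟶ X}

/-- The map of products induced by a square. -/
noncomputable def xmap (hc : c ≫ p = f ≫ v) {T : Over S} {T' : Over S'} (a : T'.left ⟶ T.left)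
    (ha : a ≫ T.hom = T'.hom ≫ v) : PicF.XT f T' ⟶ PicF.XT p T :=
  pullback.map f T'.hom p T.hom c a v hc.symm ha.symm

theorem xmap_fst (hc : c ≫ p = f ≫ v) {T : Over S} {T' : Over S'} (a : T'.left ⟶ T.left)
    (ha : a ≫ T.hom = T'.hom ≫ v) : xmap v hc a ha ≫ pullback.fst p T.hom = pullback.fst f T'.hom ≫ c :=
  pullback.lift_fst _ _ _

theorem xmap_snd (hc : c ≫ p = f ≫ v) {T : Over S} {T' : Over S'} (a : T'.left ⟶ T.left)
    (ha : a ≫ T.hom = T'.hom ≫ v) : xmap v hc a ha ≫ pullback.snd p T.hom = pullback.snd f T'.hom ≫ a :=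
  pullback.lift_snd _ _ _

theorem xmap_XTmap (hc : c ≫ p = f ≫ v) {T U : Over S} {T' U' : Over S'} (a : T'.left ⟶ T.left)
    (ha : a ≫ T.hom = T'.hom ≫ v) (b : U'.left ⟶ U.left)
    (hb : b ≫ U.hom = U'.hom ≫ v) (g : T ⟶ U) (g' : T' ⟶ U') (h : a ≫ g.left = g'.left ≫ b) :
    xmap v hc a ha ≫ PicF.XTmap p g = PicF.XTmap f g' ≫ xmap v hc b hb := by
  apply pullback.hom_ext
  · rw [Category.assoc, Category.assoc, XTmap_fst, xmap_fst, xmap_fst, ← Category.assoc, XTmap_fst]
  · have h1 := XTmap_XTproj (f := p) g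
    have h2 := XTmap_XTproj (f := f) g'
    simp only [PicF.XTproj] at h1 h2
    rw [Category.assoc, Category.assoc, h1, xmap_snd, ← Category.assoc, xmap_snd, ← Category.assoc, h2,
      Category.assoc, Category.assoc, h]

instance isOpenImmersion_xmap (hc : c ≫ p = f ≫ v) {T : Over S} {T' : Over S'} (a : T'.left ⟶ T.left)
    (ha : a ≫ T.hom = T'.hom ≫ v) [IsOpenImmersion c] [IsOpenImmersion a] [Mono v] :
    IsOpenImmersion (xmap v hc a ha) := by
  unfold xmap
  infer_instance

section model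

variable {J : Over S'} [GrpObj J] {N : Over S} [GrpObj N] (e : Red.bc v N ≅ J) [IsMonHom e.hom]

/-- The generic fibre of the model, as a map `J → N`. -/
noncomputable def jN : J.left ⟶ N.left := e.inv.left ≫ pullback.fst N.hom v

theorem jN_hom : jN v e ≫ N.hom = J.hom ≫ v := by
  rw [jN, Category.assoc, pullback.condition, ← Category.assoc]
  congr 1
  exact Over.w e.inv

instance [IsOpenImmersion v] : IsOpenImmersion (jN v e) := by
  unfold jN
  infer_instance

instance [QuasiCompact v] : QuasiCompact (jN v e) := by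
  unfold jN
  infer_instance

/-- Restriction of points of the model to points of `J`. -/
noncomputable def res {T : Over S} {T' : Over S'} (a : (Over.map v).obj T' ⟶ T) : (T ⟶ N) →* (T' ⟶ J) where
  toFun g := resK v N a g ≫ e.hom
  map_one' := by
    rw [map_one]
    exact MonObj.one_comp _
  map_mul' g h := by
    rw [map_mul]
    exact MonObj.mul_comp _ _ _

theorem res_left {T : Over S} {T' : Over S'} (a : (Over.map v).obj T' ⟶ T) (g : T ⟶ N) :
    (res v e a g).left ≫ jN v e = a.left ≫ g.left := by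
  change (resK v N a g ≫ e.hom).left ≫ jN v e = _
  rw [jN, ← Category.assoc, ← Over.comp_left, Category.assoc, Iso.hom_inv_id, Category.comp_id, resK_left]

theorem res_injective [IsSeparated N.hom] {T : Over S} {T' : Over S'} (a : (Over.map v).obj T' ⟶ T)
    [IsReduced T.left] [IsDominant a.left] : Function.Injective (res v e (N := N) a) := by
  intro g h hgh
  have h1 : a.left ≫ g.left = a.left ≫ h.left := by
    rw [← res_left v e, ← res_left v e, hgh]
  apply Over.OverMorphism.ext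
  exact ext_of_isDominant_of_isSeparated N.hom (by rw [Over.w, Over.w]) a.left h1

theorem map_left_fst {A B : Over S} (g : A ⟶ B) :
    ((Over.pullback v).map g).left ≫ pullback.fst B.hom v = pullback.fst A.hom v ≫ g.left := by
  simp [pullback.lift_fst]

theorem jN_one : (1 : J ⟶ J).left ≫ jN v e = jN v e ≫ (1 : N ⟶ N).left := by
  have h1 : (1 : J ⟶ J) ≫ e.inv = e.inv ≫ (1 : Red.bc v N ⟶ Red.bc v N) := by
    rw [MonObj.one_comp, MonObj.comp_one]
  have h2 : (1 : Red.bc v N ⟶ Red.bc v N) = (Over.pullback v).map (1 : N ⟶ N) :=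
    (Functor.map_one (Over.pullback v) (X := N) (M := N)).symm
  rw [jN, ← Category.assoc, ← Over.comp_left, h1, Over.comp_left, Category.assoc, h2, map_left_fst,
    Category.assoc]

variable {σ : S' ⟶ C} {hσ : σ ≫ f = 𝟙 S'} {ξ : Pic (PicF.XT f J)} (hJ : IsJac f σ hσ J ξ)

/-- The product of the curve with the Jacobian inside the product of the models. -/
noncomputable abbrev jZ (hc : c ≫ p = f ≫ v) : PicF.XT f J ⟶ PicF.XT p N := xmap v hc (jN v e) (jN_hom v e)

include hJ in
theorem exists_ext (h1 : C1.{u}) (hc : c ≫ p = f ≫ v) [IsOpenImmersion c] [IsOpenImmersion v]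
    [IsLocallyNoetherian (PicF.XT p N)] [CompactSpace (PicF.XT p N)]
    (hreg : Models.IsRegularScheme (PicF.XT p N)) :
    ∃ Ξ : Pic (PicF.XT p N), pull (jZ v e hc) Ξ = ξ ∧
      ∀ T : Over S, pull (PicF.XTmap p (1 : T ⟶ N)) Ξ = 1 := by
  obtain ⟨Ξ₀, h0⟩ := h1 (PicF.XT p N) (PicF.XT f J) (jZ v e hc) hreg ξ
  refine ⟨Ξ₀ * (pull (PicF.XTmap p (1 : N ⟶ N)) Ξ₀)⁻¹, ?_, ?_⟩
  · have h2 : jZ v e hc ≫ PicF.XTmap p (1 : N ⟶ N) = PicF.XTmap f (1 : J ⟶ J) ≫ jZ v e hc :=
      xmap_XTmap v hc _ _ _ _ _ _ (jN_one v e).symm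
    rw [map_mul, map_inv, h0, ← pull_comp, h2, pull_comp, h0, pull_one hJ, inv_one, _root_.mul_one]
  · intro T
    rw [map_mul, map_inv, ← pull_comp, ← XTmap_comp, MonObj.comp_one, mul_inv_cancel]

theorem pull_xmap (hc : c ≫ p = f ≫ v) {Ξ : Pic (PicF.XT p N)} (hΞ : pull (jZ v e hc) Ξ = ξ) {T : Over S}
    {T' : Over S'} (a : (Over.map v).obj T' ⟶ T) (g : T ⟶ N) :
    pull (xmap (T' := T') v hc a.left (Over.w a)) (pull (PicF.XTmap p g) Ξ) = pull (PicF.XTmap f (res v e a g)) ξ := by
  rw [← hΞ, ← pull_comp, ← pull_comp]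
  have h := xmap_XTmap (T' := T') v hc a.left (Over.w a) _ (jN_hom v e) g (res v e a g) (res_left v e a g).symm
  rw [h]

/-- Extension of the Abel map to the smooth locus of the model, on points. -/
theorem exists_abel_ext (hP : IsPullback c f p v)
    (hN : ∀ Y : Over S, Smooth Y.hom → Function.Bijective (fun g : Y ⟶ N => (Over.pullback v).map g))
    (α : Over.mk f ⟶ J) (U : X.Opens) (hU : Smooth (U.ι ≫ p)) :
    ∃ α' : Over.mk (U.ι ≫ p) ⟶ N, ∀ (T : Over S) (T' : Over S') (a : (Over.map v).obj T' ⟶ T)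
      (y : T ⟶ Over.mk (U.ι ≫ p)) (z : Pt f T'), z.1 ≫ c = a.left ≫ y.left ≫ U.ι →
        res v e a (y ≫ α') = (Over.homMk z.1 z.2 : T' ⟶ Over.mk f) ≫ α := by
  let cU : Red.bc v (Over.mk (U.ι ≫ p)) ⟶ Over.mk f :=
    Over.homMk (hP.lift (pullback.fst (U.ι ≫ p) v ≫ U.ι) (pullback.snd (U.ι ≫ p) v)
      (by rw [Category.assoc]; exact pullback.condition)) (hP.lift_snd _ _ _)
  obtain ⟨α', hα'⟩ := (hN (Over.mk (U.ι ≫ p)) hU).2 (cU ≫ α ≫ e.inv)
  simp only at hα'
  refine ⟨α', fun T T' a y z hz => ?_⟩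
  let h : T' ⟶ Red.bc v (Over.mk (U.ι ≫ p)) := (Over.mapPullbackAdj v).homEquiv T' _ (a ≫ y)
  have h1 : resK v N a (y ≫ α') = h ≫ (Over.pullback v).map α' := by
    change (Over.mapPullbackAdj v).homEquiv T' _ (a ≫ y ≫ α') = _
    rw [← Category.assoc, Adjunction.homEquiv_naturality_right]
  have h2 : h.left ≫ pullback.fst (U.ι ≫ p) v = a.left ≫ y.left := by
    have h3 : (((Over.mapPullbackAdj v).homEquiv T' _).symm h) = a ≫ y := Equiv.symm_apply_apply _ _
    have h4 := congrArg (fun w => w.left) h3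
    simp only [Over.comp_left] at h4
    rw [← h4, Adjunction.homEquiv_counit]
    simp
  have h5 : h ≫ cU = (Over.homMk z.1 z.2 : T' ⟶ Over.mk f) := by
    apply Over.OverMorphism.ext
    apply hP.hom_ext
    · change (h.left ≫ hP.lift _ _ _) ≫ c = z.1 ≫ c
      rw [Category.assoc, hP.lift_fst, hz, ← Category.assoc, h2, Category.assoc]
    · change (h.left ≫ hP.lift _ _ _) ≫ f = z.1 ≫ f
      rw [Category.assoc, hP.lift_snd, z.2]
      exact Over.w h
  change resK v N a (y ≫ α') ≫ e.hom = _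
  rw [h1, hα', Category.assoc, Category.assoc, Category.assoc, Iso.inv_hom_id, Category.comp_id,
    ← Category.assoc, h5]

end model

end Groth.Agent.Sga7.H732.Res
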